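import Cfsg.Agent.DefectOne.FTNormal
import Cfsg.Agent.Blocks.BrauerChar.Reduction
import Cfsg.Agent.CharBasics.Extra
import Cfsg.Agent.CharBasics.RealOddCount
import Cfsg.Agent.HalfDeg.Lift

/-!
A faithful character of degree `(p - 1) / 2`.
-/

set_option autoImplicit false
set_option linter.unusedSectionVars false
set_option linter.style.haveILetI false

namespace CfsgLib.HalfDeg

open Cfsg CfsgLib.CharBasics

universe u

variable {p : ℕ} [Fact p.Prime] {G : Type u} [Group G] [Fintype G] {x : G}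

theorem isIrr_of_degree (hx : orderOf x = p) (hsq : ¬ p ^ 2 ∣ Nat.card G) (hnn : ¬ (Subgroup.zpowers x).Normal)
    {χ : G → ℂ} (hχ : IsCharacter G χ) (hf : ∀ g, χ g = χ 1 → g = 1) (hdeg : 2 * charDegree χ + 1 ≤ p) :
    IsIrrCharacter G χ := by
  classical
  obtain ⟨r, ψ, hψ, hsum⟩ := exists_decomp hχ
  by_cases hr : r = 1
  · subst hr
    rw [hsum, Fin.sum_univ_one]
    exact hψ 0
  exfalso
  have hp : p.Prime := Fact.out
  have hdsum : charDegree χ = ∑ i, charDegree (ψ i) := by
    rw [hsum, charDegree_sum _ _ fun i _ => isCharacter_of_irr (hψ i)]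
  let Ni : Fin r → Subgroup G := fun i => charKer (ψ i) (isCharacter_of_irr (hψ i))
  haveI hNn : ∀ i, (Ni i).Normal := fun i => charKer_normal _
  let Li : Fin r → Subgroup G := fun i =>
    (Subgroup.zpowers (QuotientGroup.mk' (Ni i) x)).comap (QuotientGroup.mk' (Ni i))
  have hsmall : ∀ i, (Subgroup.zpowers (QuotientGroup.mk' (Ni i) x)).Normal := by
    intro i
    by_cases h1 : QuotientGroup.mk' (Ni i) x = 1
    · rw [h1, Subgroup.zpowers_one_eq_bot]; infer_instance
    haveI : Fintype (G ⧸ Ni i) := Fintype.ofFinite _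
    obtain ⟨β, hβ⟩ := exists_quotient_irr ⟨ψ i, hψ i⟩ (Ni i) fun a ha => ha
    have hlt : charDegree (ψ i) < charDegree χ := by
      have hr2 : ∃ j, j ≠ i := by
        by_contra h
        push Not at h
        exact hr (le_antisymm (by
          simpa using Fintype.card_le_one_iff.2 fun a b : Fin r => (h a).trans (h b).symm) (Nat.pos_of_ne_zero
          (fun h0 => absurd i.2 (by omega))))
      obtain ⟨j, hj⟩ := hr2
      rw [hdsum, ← Finset.add_sum_erase _ _ (Finset.mem_univ i)]
      have := Finset.single_le_sum (f := fun j => charDegree (ψ j)) (fun _ _ => Nat.zero_le _)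
        (Finset.mem_erase.2 ⟨hj, Finset.mem_univ j⟩)
      have := charDegree_pos (hψ j)
      omega
    have hd : charDegree (β : G ⧸ Ni i → ℂ) = charDegree (ψ i) := by
      have h := hβ 1
      rw [QuotientGroup.mk_one] at h
      simp only [apply_one (isCharacter_of_irr β.2), apply_one (isCharacter_of_irr (hψ i))] at h
      exact_mod_cast h
    refine CfsgLib.DefectOne.normal_of_small _ (G ⧸ Ni i) rfl
      (fun h => hsq (h.trans (Subgroup.card_quotient_dvd_card _))) β (isCharacter_of_irr β.2) (fun g hg => ?_)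
      (by omega) _ (orderOf_eq_prime ?_ h1)
    · induction g using QuotientGroup.induction_on with
      | H a =>
        rw [hβ, ← QuotientGroup.mk_one, hβ] at hg
        exact (QuotientGroup.eq_one_iff a).2 hg
    · rw [← map_pow, ← hx, pow_orderOf_eq_one, map_one]
  set L : Subgroup G := ⨅ i, Li i with hL
  haveI : L.Normal := Subgroup.normal_iInf_normal fun i => (hsmall i).comap _
  have hxL : x ∈ L := Subgroup.mem_iInf.2 fun i => Subgroup.mem_comap.2 (Subgroup.mem_zpowers _)
  have hker : ∀ g, (∀ i, g ∈ Ni i) → g = 1 := fun g hg => hf g (by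
    rw [hsum, Finset.sum_apply, Finset.sum_apply]
    exact Finset.sum_congr rfl fun i _ => hg i)
  have hLp : IsPGroup p L := fun l => ⟨1, Subtype.ext (hker _ fun i => by
    rw [← QuotientGroup.eq_one_iff]
    show QuotientGroup.mk' (Ni i) _ = 1
    obtain ⟨m, hm⟩ := Subgroup.mem_zpowers_iff.1 (Subgroup.mem_comap.1 ((Subgroup.mem_iInf.1 l.2) i))
    rw [pow_one, SubmonoidClass.coe_pow, map_pow, ← hm, ← zpow_natCast, ← zpow_mul, mul_comm, zpow_mul, zpow_natCast,
      ← map_pow, ← hx, pow_orderOf_eq_one, map_one, one_zpow])⟩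
  obtain ⟨m, hm⟩ := IsPGroup.iff_card.1 hLp
  have hm1 : m ≤ 1 := by
    by_contra h
    exact hsq (dvd_trans (pow_dvd_pow p (by omega)) (hm ▸ Subgroup.card_subgroup_dvd_card _))
  have heq : Subgroup.zpowers x = L := Subgroup.eq_of_le_of_card_ge (Subgroup.zpowers_le.2 hxL) (by
    rw [hm, Nat.card_zpowers, hx]
    exact le_trans (Nat.pow_le_pow_right hp.pos hm1) (pow_one p).le)
  exact hnn (heq ▸ inferInstance)

theorem mem_center_of_commute (hx : orderOf x = p) (hsq : ¬ p ^ 2 ∣ Nat.card G) (hnn : ¬ (Subgroup.zpowers x).Normal)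
    {χ : G → ℂ} (hχ : IsCharacter G χ) (hf : ∀ g, χ g = χ 1 → g = 1) (hdeg : 2 * charDegree χ + 1 ≤ p)
    {z : G} (hz : ∀ g : G, Commute z (g * x * g⁻¹)) : z ∈ Subgroup.center G := by
  classical
  set K := Subgroup.normalClosure ({x} : Set G) with hK
  haveI : Fintype K := Fintype.ofFinite K
  have hxK : x ∈ K := Subgroup.subset_normalClosure rfl
  have hnnK : ¬ (Subgroup.zpowers (⟨x, hxK⟩ : K)).Normal := by
    intro hN
    refine hnn ⟨fun y hy g => ?_⟩
    have hxg : g * x * g⁻¹ ∈ K := (inferInstance : K.Normal).conj_mem x hxK g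
    have h1 : g * x * g⁻¹ ∈ Subgroup.zpowers x := by
      refine mem_zpowers_of_normalizer hx hsq ?_ (by rw [conj_pow, ← hx, pow_orderOf_eq_one, mul_one, mul_inv_cancel])
      rw [CfsgLib.DefectOne.normalizer_iff_zpowers]
      obtain ⟨m, hm⟩ := Subgroup.mem_zpowers_iff.1 (hN.conj_mem _ (Subgroup.mem_zpowers _) ⟨g * x * g⁻¹, hxg⟩)
      exact Subgroup.mem_zpowers_iff.2 ⟨m, by simpa using congrArg Subtype.val hm⟩
    exact ((Subgroup.mem_normalizer_iff.1 ((CfsgLib.DefectOne.normalizer_iff_zpowers x g).2 h1)) y).1 hy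
  have hdK : charDegree (fun a : K => χ a) = charDegree χ := by simp [charDegree]
  have hirr := isIrr_of_degree (x := (⟨x, hxK⟩ : K)) (by rw [Subgroup.orderOf_mk, hx])
    (fun h => hsq (h.trans (Subgroup.card_subgroup_dvd_card K))) hnnK (isCharacter_restrict hχ K)
    (fun a ha => Subtype.ext (hf a (by simpa using ha))) (by rw [hdK]; exact hdeg)
  obtain ⟨n, ρ, hρ⟩ := hχ
  obtain ⟨n', ρ', hirr', hρ'⟩ := hirr
  have hKz : ∀ a ∈ K, Commute z a := by
    intro a ha
    have hle : K ≤ Subgroup.centralizer ({z} : Set G) := by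
      rw [hK, Subgroup.normalClosure, Subgroup.closure_le]
      intro b hb
      obtain ⟨a', ha', hb'⟩ := Group.mem_conjugatesOfSet_iff.1 hb
      obtain ⟨c, rfl⟩ := isConj_iff.1 hb'
      rw [Set.mem_singleton_iff] at ha'
      subst ha'
      exact Subgroup.mem_centralizer_singleton_iff.2 (hz c).symm
    exact (Subgroup.mem_centralizer_singleton_iff.1 (hle ha)).symm
  let ρK : Representation ℂ K (Fin n → ℂ) := ρ.comp K.subtype
  let σ := Representation.linHom ρK ρK
  haveI : Invertible (Nat.card K : ℂ) := invertibleOfNonzero (Nat.cast_ne_zero.mpr Nat.card_pos.ne')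
  have hcK : IsCharacter K ρK.character := ⟨n, ρK, rfl⟩
  have hchK : ρK.character = fun a : K => χ a := by
    funext a; rw [← hρ]; rfl
  have hone : Module.finrank ℂ (Representation.invariants σ) = 1 := by
    have h1 : classInner ρK.character ρK.character = 1 := by
      rw [hchK]; exact classInner_self ⟨n', ρ', hirr', hρ'⟩
    rw [classInner_eq] at h1
    have h2 := Representation.card_inv_mul_sum_char_eq_finrank σ
    rw [Finset.sum_congr rfl (g := fun a => ρK.character a * (starRingEnd ℂ) (ρK.character a)) fun a _ => by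
      rw [Representation.char_linHom, apply_inv hcK a, mul_comm]] at h2
    exact_mod_cast h2.symm.trans h1
  have hid : (LinearMap.id : (Fin n → ℂ) →ₗ[ℂ] (Fin n → ℂ)) ∈ Representation.invariants σ := fun a => by
    rw [Representation.linHom_apply, LinearMap.id_comp, ← Module.End.mul_eq_comp, ← map_mul, mul_inv_cancel, map_one]
    rfl
  have hzinv : ρ z ∈ Representation.invariants σ := fun a => by
    show ρ (a : G) ∘ₗ ρ z ∘ₗ ρ (a : G)⁻¹ = ρ z
    simp only [← Module.End.mul_eq_comp, ← map_mul]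
    rw [← mul_assoc, ← (hKz a a.2).eq, mul_inv_cancel_right]
  have hn0 : n ≠ 0 := by
    rintro rfl
    have : ρK.character 1 = 0 := by simp
    rw [hchK] at this
    exact apply_one_ne_zero ⟨n', ρ', hirr', hρ'⟩ this
  have hid0 : (LinearMap.id : (Fin n → ℂ) →ₗ[ℂ] (Fin n → ℂ)) ≠ 0 := fun h0 => by
    have := congrFun (LinearMap.congr_fun h0 fun _ => 1) ⟨0, Nat.pos_of_ne_zero hn0⟩
    simp at this
  have hspan : Submodule.span ℂ {(LinearMap.id : (Fin n → ℂ) →ₗ[ℂ] (Fin n → ℂ))} = Representation.invariants σ :=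
    Submodule.eq_of_le_of_finrank_le ((Submodule.span_singleton_le_iff_mem _ _).2 hid)
      (by rw [hone, finrank_span_singleton hid0])
  rw [← hspan, Submodule.mem_span_singleton] at hzinv
  obtain ⟨c, hc⟩ := hzinv
  replace hc : ρ z = c • (1 : Module.End ℂ (Fin n → ℂ)) := hc.symm
  refine Subgroup.mem_center_iff.2 fun g => ?_
  have h1 : ρ (g * z) = ρ (z * g) := by
    rw [map_mul, map_mul, hc]
    ext v
    simp
  have h2 : ρ (g * z * (z * g)⁻¹) = 1 := by rw [map_mul, h1, ← map_mul, mul_inv_cancel, map_one]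
  have h3 : g * z * (z * g)⁻¹ = 1 := hf _ (by
    rw [← hρ]
    show LinearMap.trace ℂ _ (ρ _) = LinearMap.trace ℂ _ (ρ 1)
    exact congrArg _ (h2.trans (map_one ρ).symm))
  exact mul_inv_eq_one.1 h3

theorem no_primitive (hx : orderOf x = p) {χ : G → ℂ} (hχ : IsCharacter G χ) (hf : ∀ g, χ g = χ 1 → g = 1)
    (hdeg : 2 * charDegree χ + 1 ≤ p) {h : G} {n : ℕ} (hh : h * x * h⁻¹ = x ^ n)
    (hn : orderOf (n : ZMod p) = p - 1) : False := by
  classical
  have hp : p.Prime := Fact.out
  obtain ⟨e, ρ, hρ⟩ := hχ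
  set A := ρ x with hA
  have hAp : A ^ p = 1 := by rw [hA, ← map_pow, ← hx, pow_orderOf_eq_one, map_one]
  have hA1 : A ≠ 1 := by
    intro h1
    have : x = 1 := hf x (by
      rw [← hρ]
      show LinearMap.trace ℂ _ (ρ x) = LinearMap.trace ℂ _ (ρ 1)
      exact congrArg _ ((hA ▸ h1).trans (map_one ρ).symm))
    rw [this, orderOf_one] at hx
    exact hp.ne_one hx.symm
  set S := ∑ i ∈ Finset.range p, A ^ i with hS
  have hSA : Commute A S := Commute.sum_right _ _ _ fun i _ => (Commute.refl A).pow_right i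
  set W := LinearMap.ker S with hW
  have hWinv : ∀ v ∈ W, A v ∈ W := fun v hv => by
    rw [hW, LinearMap.mem_ker] at hv ⊢
    rw [← Module.End.mul_apply, ← hSA.eq, Module.End.mul_apply, hv, map_zero]
  haveI : Nontrivial W := by
    rw [Submodule.nontrivial_iff_ne_bot]
    intro hbot
    refine hA1 (sub_eq_zero.1 (LinearMap.ext fun v => ?_))
    have : (A - 1) v ∈ W := by
      rw [hW, LinearMap.mem_ker, ← Module.End.mul_apply, hS, geom_sum_mul, hAp, sub_self, LinearMap.zero_apply]
    rw [hbot, Submodule.mem_bot] at this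
    exact this
  obtain ⟨μ, hμ⟩ := Module.End.exists_eigenvalue (A.restrict hWinv)
  obtain ⟨v, hv⟩ := hμ.exists_hasEigenvector
  have hv0 : (v : Fin e → ℂ) ≠ 0 := fun h0 => hv.2 (Subtype.ext h0)
  have hAv : A (v : Fin e → ℂ) = μ • (v : Fin e → ℂ) := congrArg Subtype.val hv.apply_eq_smul
  have hApow : ∀ i : ℕ, (A ^ i) (v : Fin e → ℂ) = μ ^ i • (v : Fin e → ℂ) := by
    intro i
    induction i with
    | zero => simp
    | succ i ih => rw [pow_succ', Module.End.mul_apply, ih, map_smul, hAv, smul_smul, ← pow_succ]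
  have hμ1 : μ ≠ 1 := by
    intro h1
    have h := LinearMap.mem_ker.1 v.2
    simp only [hS, LinearMap.sum_apply, hApow, h1, one_pow, one_smul, Finset.sum_const, Finset.card_range] at h
    rw [← Nat.cast_smul_eq_nsmul ℂ, smul_eq_zero] at h
    exact (h.resolve_right hv0) |> fun h' => hp.ne_zero (Nat.cast_eq_zero.1 h')
  have hμp : μ ^ p = 1 := by
    have := hApow p
    rw [hAp, Module.End.one_apply] at this
    exact (smul_left_injective ℂ hv0 (this.symm.trans (one_smul _ _).symm))
  have hroot : ∀ j : ℕ, μ ^ (n ^ j) ∈ A.charpoly.roots.toFinset ∧ ∃ w, w ≠ 0 ∧ A w = μ ^ (n ^ j) • w := by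
    intro j
    have key : ∃ w, w ≠ 0 ∧ A w = μ ^ (n ^ j) • w := by
      induction j with
      | zero => exact ⟨v, hv0, by simpa using hAv⟩
      | succ j ih =>
        obtain ⟨w, hw0, hw⟩ := ih
        refine ⟨ρ h⁻¹ w, fun h0 => hw0 ?_, ?_⟩
        · have := congrArg (ρ h) h0
          rwa [← Module.End.mul_apply, ← map_mul, mul_inv_cancel, map_one, Module.End.one_apply, map_zero] at this
        · have hpw : ∀ i : ℕ, (A ^ i) w = (μ ^ (n ^ j)) ^ i • w := by
            intro i
            induction i with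
            | zero => simp
            | succ i ih => rw [pow_succ', Module.End.mul_apply, ih, map_smul, hw, smul_smul, ← pow_succ]
          rw [hA, ← Module.End.mul_apply, ← map_mul, show x * h⁻¹ = h⁻¹ * (h * x * h⁻¹) by group, hh, map_mul,
            map_pow, Module.End.mul_apply, ← hA, hpw, map_smul, ← pow_mul, ← pow_succ]
    refine ⟨?_, key⟩
    obtain ⟨w, hw0, hw⟩ := key
    rw [Multiset.mem_toFinset, Polynomial.mem_roots A.charpoly_monic.ne_zero,
      ← Module.End.hasEigenvalue_iff_isRoot_charpoly]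
    exact Module.End.hasEigenvalue_of_hasEigenvector ⟨Module.End.mem_eigenspace_iff.2 hw, hw0⟩
  have hord : orderOf μ = p := orderOf_eq_prime hμp hμ1
  have hinj : Set.InjOn (fun j : ℕ => μ ^ (n ^ j)) (Finset.range (p - 1) : Set ℕ) := by
    intro i hi j hj hij
    simp only at hij
    rw [(isOfFinOrder_iff_pow_eq_one.2 ⟨p, hp.pos, hμp⟩).pow_eq_pow_iff_modEq, hord,
      ← ZMod.natCast_eq_natCast_iff] at hij
    push_cast at hij
    exact pow_injOn_Iio_orderOf (x := (n : ZMod p)) (by simpa [hn] using hi) (by simpa [hn] using hj) hij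
  have hcard := Finset.card_le_card_of_injOn (fun j : ℕ => μ ^ (n ^ j)) (s := Finset.range (p - 1))
    (t := A.charpoly.roots.toFinset) (fun j _ => (hroot j).1) hinj
  rw [Finset.card_range] at hcard
  have h2 := hcard.trans ((Multiset.toFinset_card_le _).trans (Polynomial.card_roots' _))
  rw [LinearMap.charpoly_natDegree, Module.finrank_fin_fun] at h2
  have he : charDegree χ = e := by rw [← hρ]; simp [charDegree]
  have := hp.two_le
  have hp3 : p ≠ 2 := fun h => by
    subst h
    rw [he] at hdeg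
    have : e = 0 := by omega
    subst this
    exact hA1 (LinearMap.ext fun v => Subsingleton.elim _ _)
  omega

open CfsgLib.BrauerChar in
theorem exists_module {M : Ideal AlgInt} (hM : IsPModular p M) (hx : orderOf x = p) (hsq : ¬ p ^ 2 ∣ Nat.card G)
    (hnn : ¬ (Subgroup.zpowers x).Normal) {χ : IrrCharacter G} (hf : ∀ g, (χ : G → ℂ) g = (χ : G → ℂ) 1 → g = 1) :
    ∃ (m : ℕ) (σ : Representation (RF hM) G (Fin m → RF hM)), m = charDegree (χ : G → ℂ) ∧ σ x ≠ 1 ∧
      ∀ z ∈ Subgroup.center G, ∃ c : RF hM, σ z = c • 1 := by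
  classical
  obtain ⟨n, m, ρ, B, A, hirr, hχ, hA⟩ := exists_integral_model hM χ
  have hm : m = charDegree (χ : G → ℂ) := by
    have h := Module.finrank_eq_card_basis B
    rw [Module.finrank_fin_fun, Fintype.card_fin] at h
    rw [← hχ]
    simp [charDegree, h]
  refine ⟨m, reduceRep hM A, hm, fun h1 => ?_, fun z hz => ?_⟩
  swap
  · haveI := hirr
    obtain ⟨c, hc, -⟩ := commute_eq_scalar ρ (ρ z) fun a => by
      show ρ a * ρ z = ρ z * ρ a
      rw [← map_mul, ← map_mul, Subgroup.mem_center_iff.1 hz a]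
    rcases Nat.eq_zero_or_pos m with h0 | hpos
    · subst h0
      exact ⟨0, LinearMap.ext fun v => Subsingleton.elim _ _⟩
    set a0 := A z ⟨0, hpos⟩ ⟨0, hpos⟩
    have hval : ∀ i j, ((A z i j : plc hM) : ℂ) = if i = j then c else 0 := fun i j => by
      have h := congrFun (congrFun (hA z) i) j
      rw [Matrix.map_apply] at h
      refine h.trans ?_
      rw [show ρ z = c • (1 : Module.End ℂ (Fin n → ℂ)) from hc, map_smul, LinearMap.toMatrix_one]
      simp [Matrix.one_apply]
    have hAz : A z = a0 • (1 : Matrix (Fin m) (Fin m) (plc hM)) := by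
      apply Matrix.ext
      intro i j
      apply Subtype.val_injective
      show ((A z i j : plc hM) : ℂ) = _
      rw [hval]
      by_cases hij : i = j
      · subst hij; simp [a0, hval]
      · simp [hij, Matrix.one_apply]
    refine ⟨res hM a0, LinearMap.ext fun v => funext fun i => ?_⟩
    show (Matrix.toLinAlgEquiv' ((res hM).mapMatrix (A z)) v) i = _
    rw [hAz]
    simp [Matrix.mulVec, dotProduct, Matrix.one_apply, mul_comm, apply_ite (res hM)]
  let φ : G →* Module.End (RF hM) (Fin m → RF hM) := reduceRep hM A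
  let N : Subgroup G := φ.toHomUnits.ker
  have hxN : x ∈ N := Units.ext h1
  have hreg : ∀ y ∈ N, ¬ p ∣ orderOf y → y = 1 := by
    intro y hy hreg
    refine hf y ?_
    have e1 : reduceRep hM A y = reduceRep hM A 1 := by
      rw [map_one]
      exact congrArg Units.val hy
    rw [← hχ, ← bc_reduceRep hM hA hreg, ← bc_reduceRep hM hA (g := 1) (by simpa using (Fact.out : p.Prime).ne_one),
      bc_regular _ hreg, bc_regular _ (by simpa using (Fact.out : p.Prime).ne_one), e1]
  have hNp : IsPGroup p N := by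
    rw [IsPGroup.iff_card]
    refine ⟨(Nat.card N).primeFactorsList.length,
      Nat.eq_prime_pow_of_unique_prime_dvd Nat.card_pos.ne' fun {q} hq hqd => ?_⟩
    by_contra hne
    haveI := Fact.mk hq
    obtain ⟨y, hy⟩ := exists_prime_orderOf_dvd_card' q hqd
    have := hreg y y.2 (by
      rw [Subgroup.orderOf_coe, hy]
      exact fun h => hne ((Nat.prime_dvd_prime_iff_eq Fact.out hq).1 h).symm)
    rw [← Subgroup.orderOf_coe, this, orderOf_one] at hy
    exact hq.ne_one hy.symm
  obtain ⟨j, hj⟩ := IsPGroup.iff_card.1 hNp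
  have hj1 : j ≤ 1 := by
    by_contra h
    exact hsq (dvd_trans (pow_dvd_pow p (by omega)) (hj ▸ Subgroup.card_subgroup_dvd_card _))
  have heq : Subgroup.zpowers x = N := Subgroup.eq_of_le_of_card_ge (Subgroup.zpowers_le.2 hxN) (by
    rw [hj, Nat.card_zpowers, hx]
    exact le_trans (Nat.pow_le_pow_right (Fact.out : p.Prime).pos hj1) (pow_one p).le)
  exact hnn (heq ▸ inferInstance)

end CfsgLib.HalfDeg
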