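import Cfsg.Agent.S4472
import Cfsg.Agent.PCore.PSolvable
import Cfsg.Agent.CharBasics.LinearOver
import Cfsg.Agent.HalfDeg.ThreeProj
import Cfsg.Agent.HalfDeg.Points
import Cfsg.Agent.HalfDeg.Ordinary
import Cfsg.Agent.Blocks.Glauberman

/-!
A finite group with a faithful character of degree `(p - 1) / 2` is `PSL(2, p)` modulo its centre.
-/

set_option autoImplicit false
set_option linter.unusedSectionVars false
set_option linter.style.haveILetI false

namespace CfsgLib.HalfDeg

open Cfsg CfsgLib.CharBasics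
open scoped Matrix Pointwise

universe u

variable {p : ℕ} [Fact p.Prime] {G : Type u} [Group G] [Fintype G] {x : G}

theorem mem_of_dvd_card_normal (hx : orderOf x = p) (hsq : ¬ p ^ 2 ∣ Nat.card G) (N : Subgroup G) [N.Normal]
    (h : p ∣ Nat.card N) : x ∈ N := by
  classical
  obtain ⟨y, hy⟩ := exists_prime_orderOf_dvd_card' (G := N) p h
  have hfac : (Nat.card G).factorization p = 1 := by
    refine le_antisymm ?_ ?_
    · by_contra hc
      exact hsq ((pow_dvd_pow p (by omega : 2 ≤ (Nat.card G).factorization p)).trans (Nat.ordProj_dvd _ _))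
    · exact (Fact.out : p.Prime).factorization_pos_of_dvd Nat.card_pos.ne'
        (hx ▸ orderOf_dvd_natCard x)
  have hS : ∀ z : G, orderOf z = p → Nat.card (Subgroup.zpowers z) = p ^ (Nat.card G).factorization p :=
    fun z hz => by rw [hfac, pow_one, Nat.card_zpowers, hz]
  have hy' : orderOf (y : G) = p := by rw [Subgroup.orderOf_coe, hy]
  obtain ⟨g, hg⟩ := MulAction.exists_smul_eq G (Sylow.ofCard (Subgroup.zpowers (y : G)) (hS _ hy'))
    (Sylow.ofCard (Subgroup.zpowers x) (hS _ hx))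
  have h1 := congrArg (fun P : Sylow p G => (P : Subgroup G)) hg
  have h2 : x ∈ (g • Sylow.ofCard (Subgroup.zpowers (y : G)) (hS _ hy') : Sylow p G).toSubgroup := by
    simpa [h1] using Subgroup.mem_zpowers x
  rw [Sylow.coe_subgroup_smul, Subgroup.mem_pointwise_smul_iff_inv_smul_mem] at h2
  have h3 : MulAut.conj g⁻¹ x ∈ N := by
    refine Subgroup.zpowers_le.2 y.2 ?_
    simpa using h2
  have h4 := (inferInstance : N.Normal).conj_mem _ h3 g
  simpa [mul_assoc] using h4

set_option maxHeartbeats 800000 in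
theorem commute_of_normal (hp : 5 ≤ p) (hx : orderOf x = p) (hsq : ¬ p ^ 2 ∣ Nat.card G)
    {χ : G → ℂ} (hχ : IsCharacter G χ) (hf : ∀ g, χ g = χ 1 → g = 1) (hdeg : 2 * charDegree χ + 1 ≤ p)
    (N : Subgroup G) [N.Normal] (hxN : x ∉ N) {n : G} (hn : n ∈ N) : Commute n x := by
  classical
  have hpp : p.Prime := Fact.out
  have hNc : ¬ p ∣ Nat.card N := fun h => hxN (mem_of_dvd_card_normal hx hsq N h)
  set L := N ⊔ Subgroup.zpowers x with hL
  have hxL : x ∈ L := Subgroup.mem_sup_right (Subgroup.mem_zpowers x)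
  have hNL : N ≤ L := le_sup_left
  clear_value L
  have hcardN : Nat.card (N.subgroupOf L) = Nat.card N := Nat.card_congr (Subgroup.subgroupOfEquivOfLe hNL).toEquiv
  have hsol : IsPSolvable p L := by
    refine CfsgLib.PCore.isPSolvable_of_normal (N.subgroupOf L)
      (CfsgLib.PCore.isPSolvable_of_coprime (CfsgLib.PCore.coprime_of_not_dvd (by rwa [hcardN]))) ?_
    refine CfsgLib.PCore.isPSolvable_of_isPGroup ?_
    have h1 : Nat.card L ∣ Nat.card N * p := by
      rw [hL, ← hx, ← Nat.card_zpowers, sup_comm, mul_comm]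
      exact CfsgLib.PCore.card_sup_dvd N _
    have h2 : Nat.card (N.subgroupOf L) * (N.subgroupOf L).index ∣ Nat.card N * p := by
      rw [Subgroup.card_mul_index]; exact h1
    rw [hcardN] at h2
    replace h1 : (N.subgroupOf L).index ∣ p := Nat.dvd_of_mul_dvd_mul_left Nat.card_pos h2
    obtain ⟨i, -, hi⟩ := (Nat.dvd_prime_pow hpp).1 (show (N.subgroupOf L).index ∣ p ^ 1 by rw [pow_one]; exact h1)
    exact IsPGroup.of_card (n := i) (by rw [← Subgroup.index_eq_card]; exact hi)
  have hχL := isCharacter_restrict hχ L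
  have hdL : charDegree (fun l : L => χ l) = charDegree χ := by
    have h := apply_one hχL
    rw [OneMemClass.coe_one, apply_one hχ] at h
    exact_mod_cast h.symm
  have hidx := Cfsg.Agent.S4472.result (fun l : L => χ l) hχL
    (fun l hl => Subtype.ext (hf l (by simpa using hl))) (charDegree χ) hdL p hpp hsol
  rw [Finset.sum_eq_zero fun i _ => Nat.div_eq_of_lt (lt_of_lt_of_le (by omega : charDegree χ < p - 1)
    (Nat.le_mul_of_pos_right _ (Nat.pow_pos hpp.pos))), Nat.le_zero] at hidx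
  set C := Cfsg.pCore p L with hC
  have hCn : C.Normal := Cfsg.pCore_normal p L
  have hCp : IsPGroup p C := CfsgLib.PCore.isPGroup_pCore p L
  have hpC : p ∣ Nat.card C := by
    have h1 : p ∣ Nat.card C * C.index := by
      rw [Subgroup.card_mul_index, ← hx]
      exact (Subgroup.orderOf_mk x hxL) ▸ orderOf_dvd_natCard (⟨x, hxL⟩ : L)
    refine (hpp.dvd_mul.1 h1).resolve_right fun h => ?_
    have := hpp.factorization_pos_of_dvd Subgroup.index_ne_zero_of_finite h
    omega
  have hone : ∀ K : Subgroup L, IsPGroup p K → Nat.card K ≤ p := by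
    intro K hK
    obtain ⟨j, hj⟩ := IsPGroup.iff_card.1 hK
    have hj1 : j ≤ 1 := by
      by_contra h
      exact hsq (dvd_trans (pow_dvd_pow p (by omega)) (hj ▸ ((Subgroup.card_subgroup_dvd_card K).trans
        (Subgroup.card_subgroup_dvd_card L))))
    rw [hj]
    exact le_trans (Nat.pow_le_pow_right hpp.pos hj1) (pow_one p).le
  let x' : L := ⟨x, hxL⟩
  have hzx : IsPGroup p (Subgroup.zpowers x') :=
    IsPGroup.of_card (n := 1) (by rw [Nat.card_zpowers, Subgroup.orderOf_mk, hx, pow_one])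
  haveI := hCn
  have hCz : C = Subgroup.zpowers x' := by
    have hsup : IsPGroup p ↥(Subgroup.zpowers x' ⊔ C) := hzx.to_sup_of_normal_right hCp
    have h1 : Subgroup.zpowers x' = Subgroup.zpowers x' ⊔ C :=
      Subgroup.eq_of_le_of_card_ge le_sup_left (by
        rw [Nat.card_zpowers, Subgroup.orderOf_mk, hx]; exact hone _ hsup)
    refine Subgroup.eq_of_le_of_card_ge (h1 ▸ le_sup_right) ?_
    rw [Nat.card_zpowers, Subgroup.orderOf_mk, hx]
    exact Nat.le_of_dvd Nat.card_pos hpC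
  have h1 : n * x * n⁻¹ ∈ Subgroup.zpowers x := by
    have h := hCn.conj_mem x' (hCz ▸ Subgroup.mem_zpowers x') ⟨n, hNL hn⟩
    rw [hCz] at h
    obtain ⟨i, hi⟩ := Subgroup.mem_zpowers_iff.1 h
    exact Subgroup.mem_zpowers_iff.2 ⟨i, by simpa [x'] using congrArg Subtype.val hi⟩
  have hdis : N ⊓ Subgroup.zpowers x = ⊥ := by
    refine Subgroup.inf_eq_bot_of_coprime ?_
    rw [Nat.card_zpowers, hx]
    exact CfsgLib.PCore.coprime_of_not_dvd hNc
  have h2 : n * x * n⁻¹ * x⁻¹ ∈ N ⊓ Subgroup.zpowers x := by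
    refine Subgroup.mem_inf.2 ⟨?_, mul_mem h1 (inv_mem (Subgroup.mem_zpowers x))⟩
    rw [show n * x * n⁻¹ * x⁻¹ = n * (x * n⁻¹ * x⁻¹) by group]
    exact mul_mem hn ((inferInstance : N.Normal).conj_mem _ (inv_mem hn) x)
  rw [hdis, Subgroup.mem_bot, mul_inv_eq_one, mul_inv_eq_iff_eq_mul] at h2
  exact h2

theorem ker_le_center (hp : 5 ≤ p) (hx : orderOf x = p) (hsq : ¬ p ^ 2 ∣ Nat.card G)
    (hnn : ¬ (Subgroup.zpowers x).Normal) {χ : G → ℂ} (hχ : IsCharacter G χ) (hf : ∀ g, χ g = χ 1 → g = 1)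
    (hdeg : 2 * charDegree χ + 1 ≤ p) (N : Subgroup G) [N.Normal] (hxN : x ∉ N) : N ≤ Subgroup.center G := by
  intro n hn
  refine mem_center_of_commute hx hsq hnn hχ hf hdeg fun g => ?_
  have h := commute_of_normal hp hx hsq hχ hf hdeg N hxN ((inferInstance : N.Normal).conj_mem n hn g⁻¹)
  have h' := h.map (MulAut.conj g).toMonoidHom
  simpa [mul_assoc] using h'

set_option maxHeartbeats 3200000 in
theorem psl_of_module {k : Type*} [Field k] [IsAlgClosed k] [CharP k p] (hp : 5 ≤ p)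
    (D : CfsgLib.DefectOne.Data G p) (hnn : ¬ (Subgroup.zpowers D.x).Normal)
    {χ : G → ℂ} (hχ : IsCharacter G χ) (hf : ∀ g, χ g = χ 1 → g = 1) (hdeg' : 2 * charDegree χ + 1 ≤ p)
    {m : ℕ} (hm : 2 * m < p) (ρ : Representation k G (Fin m → k)) (hρx : ρ D.x ≠ 1)
    (hρz : ∀ z ∈ Subgroup.center G, ∃ c : k, ρ z = c • 1) :
    Nonempty ((G ⧸ Subgroup.center G) ≃* Matrix.ProjectiveSpecialLinearGroup (Fin 2) (ZMod p)) := by
  classical
  have hpp : p.Prime := Fact.out
  set x := D.x with hxdef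
  have hx : orderOf x = p := D.hx
  have hsq := D.hSyl
  have hxp : x ^ p = 1 := by rw [← hx, pow_orderOf_eq_one]
  obtain ⟨π, hπ, hπtr, hπ3, hπx, hπH, hX, v, hv, hXv⟩ := exists_threeProj ρ hxp hp
    (by rw [Module.finrank_fin_fun]; omega) hρx D.H D.hHp fun h hh => by
      obtain ⟨i, hi⟩ := mem_powers_iff_mem_zpowers.2 (D.hHN h hh)
      exact ⟨i, hi.symm⟩
  have hπN : ∀ g ∈ Subgroup.normalizer (Subgroup.zpowers x : Set G),
      Commute π (Representation.linHom ρ ρ g) := by
    intro g hg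
    obtain ⟨a, ha, h, hh, rfl⟩ := D.hN g ((CfsgLib.DefectOne.normalizer_iff_zpowers x g).1 hg)
    obtain ⟨i, rfl⟩ := mem_powers_iff_mem_zpowers.2 ha
    show Commute π (Representation.linHom ρ ρ (x ^ i * h))
    rw [map_mul, map_pow]
    exact (hπx.pow_right i).mul_right (hπH h hh)
  let E := Module.End k (Fin m → k)
  let tr := LinearMap.trace k (Fin m → k)
  let B : E → E → k := fun a b => tr (a * b)
  have hu : ∀ g : G, ρ g⁻¹ * ρ g = 1 ∧ ρ g * ρ g⁻¹ = 1 := fun g => by
    constructor <;> rw [← map_mul] <;> simp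
  let Lg : G →* Module.End k E := Representation.linHom ρ ρ
  have hLg : ∀ g (a : E), Lg g a = ρ g * a * ρ g⁻¹ := fun g a => by rw [mul_assoc]; rfl
  have hB : ∀ g a b, B (Lg g a) (Lg g b) = B a b := by
    intro g a b
    show tr (Lg g a * Lg g b) = tr (a * b)
    rw [hLg, hLg, show ρ g * a * ρ g⁻¹ * (ρ g * b * ρ g⁻¹) = ρ g * (a * (ρ g⁻¹ * ρ g) * b) * ρ g⁻¹ by
      simp only [mul_assoc], (hu g).1, mul_one, LinearMap.trace_mul_comm, ← mul_assoc, (hu g).1, one_mul]
  obtain ⟨ε, hε, hεg, hεB, hε3, hεX⟩ := exists_lift (Representation.linHom ρ ρ) B hB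
    (fun a a' b => by simp [B, add_mul]) (fun a b b' => by simp [B, mul_add]) hx hsq π hπ hπtr hπN hX
  obtain ⟨w, hw, hXw⟩ := hεX v hv hXv
  clear v hv hXv
  rw [hπ3] at hε3
  set W := LinearMap.range ε with hWdef
  have hWfix : ∀ a ∈ W, ε a = a := by rintro _ ⟨b, rfl⟩; rw [← Module.End.mul_apply, hε]
  have hWinv : ∀ g, ∀ a ∈ W, Lg g a ∈ W := by
    rintro g _ ⟨b, rfl⟩
    exact ⟨Lg g b, by rw [← Module.End.mul_apply, (hεg g).eq, Module.End.mul_apply]⟩
  -- the unipotent part on W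
  let X : Module.End k E := Lg x - 1
  have hX' : X ^ (p - 1) = 0 := hX
  have hXW : ∀ a ∈ W, X a ∈ W := fun a ha => W.sub_mem (hWinv x a ha) ha
  have hX3 : ∀ a ∈ W, X (X (X a)) = 0 := by
    intro a ha
    let XW : Module.End k W := X.restrict hXW
    have hpow : ∀ (j : ℕ) (b : W), (((XW ^ j) b : W) : E) = (X ^ j) (b : E) := by
      intro j
      induction j with
      | zero => intro b; rfl
      | succ j ih => intro b; rw [pow_succ', pow_succ', Module.End.mul_apply, Module.End.mul_apply, ← ih b]; rfl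
    have h1 : XW ^ (p - 1) = 0 := LinearMap.ext fun b => Subtype.ext (by rw [hpow, hX']; rfl)
    have h2 := Module.End.ker_pow_le_ker_pow_finrank (K := k) (V := W) XW (p - 1)
    rw [h1, LinearMap.ker_zero, hε3, top_le_iff, LinearMap.ker_eq_top] at h2
    have h3 := hpow 3 ⟨a, ha⟩
    rw [h2] at h3
    exact h3.symm
  set e := X (X w) with hedef
  have he0 : e ≠ 0 := hXw
  have heW : e ∈ W := hXW _ (hXW _ hw)
  have hXe : X e = 0 := hX3 w hw
  have Badd : ∀ a a' b, B (a + a') b = B a b + B a' b := fun a a' b => by simp [B, add_mul]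
  have Badd' : ∀ a b b', B a (b + b') = B a b + B a b' := fun a b b' => by simp [B, mul_add]
  have Bsub : ∀ a a' b, B (a - a') b = B a b - B a' b := fun a a' b => by simp [B, sub_mul]
  have Bsub' : ∀ a b b', B a (b - b') = B a b - B a b' := fun a b b' => by simp [B, mul_sub]
  have Bsmul : ∀ (c : k) a b, B (c • a) b = c * B a b := fun c a b => by simp [B]
  have Bsmul' : ∀ (c : k) a b, B a (c • b) = c * B a b := fun c a b => by simp [B]
  have Bcomm : ∀ a b, B a b = B b a := fun a b => LinearMap.trace_mul_comm _ _ _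
  have Bzero : ∀ b, B 0 b = 0 := fun b => by simp [B]
  have star : ∀ a b, B (X a) b + B a (X b) + B (X a) (X b) = 0 := by
    intro a b
    have h := hB x a b
    have hxa : ∀ c, Lg x c = c + X c := fun c => by simp [X]
    rw [hxa, hxa, Badd, Badd', Badd'] at h
    linear_combination h
  have heX : ∀ a, B e (X a) = 0 := fun a => by
    have h := star e a
    rw [hXe, Bzero, Bzero, zero_add, add_zero] at h
    exact h
  have h2k : (2 : k) ≠ 0 := two_ne_zero_of_five_le (p := p) hp
  set β := B e w with hβdef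
  have hee : B e e = 0 := heX (X w)
  have hwe : B w e = β := Bcomm _ _
  have hXwXw : B (X w) (X w) = -β := by
    have h := star w (X w)
    rw [← hedef, hwe, Bcomm (X w) e, heX] at h
    linear_combination h
  have hXww : B (X w) w = β / 2 := by
    have h := star w w
    rw [hXwXw, Bcomm w (X w)] at h
    field_simp
    linear_combination h
  set m' := X w - (2 : k)⁻¹ • e with hm'def
  have hXm : X m' = e := by rw [hm'def, map_sub, map_smul, hXe, smul_zero, sub_zero]
  have hm'W : m' ∈ W := W.sub_mem (hXW _ hw) (W.smul_mem _ heW)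
  -- nondegeneracy
  have hind : ∀ c0 c1 c2 : k, c0 • e + c1 • m' + c2 • w = 0 → c0 = 0 ∧ c1 = 0 ∧ c2 = 0 := by
    intro c0 c1 c2 h
    have h1 : c1 • e + c2 • X w = 0 := by
      have := congrArg X h
      rw [map_add, map_add, map_smul, map_smul, map_smul, map_zero, hXe, hXm, smul_zero, zero_add] at this
      exact this
    have h2 : c2 • e = 0 := by
      have := congrArg X h1
      rw [map_add, map_smul, map_smul, map_zero, hXe, smul_zero, zero_add] at this
      exact this
    have hc2 : c2 = 0 := (smul_eq_zero.1 h2).resolve_right he0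
    rw [hc2, zero_smul, add_zero] at h1
    have hc1 : c1 = 0 := (smul_eq_zero.1 h1).resolve_right he0
    rw [hc1, hc2, zero_smul, zero_smul, add_zero, add_zero] at h
    exact ⟨(smul_eq_zero.1 h).resolve_right he0, hc1, hc2⟩
  have hem : B e m' = 0 := by rw [hm'def, Bsub', Bsmul', heX, hee, mul_zero, sub_zero]
  let Φ0 : (Fin 3 → k) →ₗ[k] E :=
    (LinearMap.proj 0).smulRight e + (LinearMap.proj 1).smulRight m' + (LinearMap.proj 2).smulRight w
  have hΦ0 : ∀ c, Φ0 c = c 0 • e + c 1 • m' + c 2 • w := fun c => rfl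
  have hrange0 : LinearMap.range Φ0 = W := by
    refine Submodule.eq_of_le_of_finrank_le ?_ ?_
    · rintro _ ⟨c, rfl⟩
      rw [hΦ0]
      exact W.add_mem (W.add_mem (W.smul_mem _ heW) (W.smul_mem _ hm'W)) (W.smul_mem _ hw)
    · rw [LinearMap.finrank_range_of_inj (f := Φ0), Module.finrank_fin_fun, hε3]
      intro c d hcd
      obtain ⟨h0, h1, h2⟩ := hind (c 0 - d 0) (c 1 - d 1) (c 2 - d 2) (by
        rw [hΦ0, hΦ0] at hcd
        linear_combination (norm := module) hcd)
      funext i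
      fin_cases i
      exacts [sub_eq_zero.1 h0, sub_eq_zero.1 h1, sub_eq_zero.1 h2]
  have hβ0 : β ≠ 0 := by
    intro h0
    have hall : ∀ a, B e a = 0 := by
      intro a
      rw [← hWfix e heW, hεB]
      obtain ⟨c, hc⟩ : ε a ∈ LinearMap.range Φ0 := hrange0 ▸ LinearMap.mem_range_self ε a
      rw [← hc, hΦ0, Badd', Badd', Bsmul', Bsmul', Bsmul', hee, hem, ← hβdef, h0]
      ring
    refine he0 (LinearMap.ext fun u => ?_)
    rw [LinearMap.zero_apply]
    refine (Module.forall_dual_apply_eq_zero_iff k _).1 fun f => ?_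
    have h1 := hall (f.smulRight u)
    have h2 : e * f.smulRight u = f.smulRight (e u) := LinearMap.ext fun z => map_smul e (f z) u
    simp only [B, tr] at h1
    rwa [h2, LinearMap.trace_smulRight] at h1
  -- the adapted basis
  set t := -(B w w) / (2 * β) with htdef
  set v' := w + t • e with hv'def
  have hXv' : X v' = X w := by rw [hv'def, map_add, map_smul, hXe, smul_zero, add_zero]
  have hev : B e v' = β := by rw [hv'def, Badd', Bsmul', hee, mul_zero, add_zero]
  have hmm : B m' m' = -β := by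
    rw [hm'def, Bsub, Bsub', Bsub', Bsmul, Bsmul, Bsmul', Bsmul', hXwXw, Bcomm (X w) e, heX, hee]
    ring
  have hmv : B m' v' = 0 := by
    rw [hv'def, Badd', Bsmul', Bcomm m' e, hem, mul_zero, add_zero, hm'def, Bsub, Bsmul, hXww, ← hβdef]
    field_simp
    ring
  have hvv : B v' v' = 0 := by
    rw [hv'def, Badd, Badd', Badd', Bsmul, Bsmul, Bsmul', Bsmul', hee, hwe, ← hβdef, htdef]
    field_simp
    ring
  let Φ : (Fin 3 → k) →ₗ[k] E :=
    (LinearMap.proj 0).smulRight e + (LinearMap.proj 1).smulRight m' + (LinearMap.proj 2).smulRight v'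
  let Ψ : E →ₗ[k] (Fin 3 → k) := LinearMap.pi
    ![β⁻¹ • tr.comp (LinearMap.mulRight k v'), (-β)⁻¹ • tr.comp (LinearMap.mulRight k m'),
      β⁻¹ • tr.comp (LinearMap.mulRight k e)]
  have hΦ : ∀ c, Φ c = c 0 • e + c 1 • m' + c 2 • v' := fun c => rfl
  have hv'W : v' ∈ W := W.add_mem hw (W.smul_mem _ heW)
  have hΦW : ∀ c, Φ c ∈ W := fun c => by
    rw [hΦ]
    exact W.add_mem (W.add_mem (W.smul_mem _ heW) (W.smul_mem _ hm'W)) (W.smul_mem _ hv'W)
  have hBΦ : ∀ c d, B (Φ c) (Φ d) = β * qB c d := by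
    intro c d
    simp only [hΦ, Badd, Badd', Bsmul, Bsmul', hee, hem, hev, Bcomm m' e, Bcomm v' e, Bcomm v' m', hmm, hmv, hvv,
      qB]
    ring
  have hΨΦ : ∀ c, Ψ (Φ c) = c := by
    intro c
    have e0 : B (Φ c) v' = β * c 0 := by
      simp only [hΦ, Badd, Bsmul, hev, hmv, hvv]; ring
    have e1 : B (Φ c) m' = -β * c 1 := by
      simp only [hΦ, Badd, Bsmul, hem, hmm, Bcomm v' m', hmv]; ring
    have e2 : B (Φ c) e = β * c 2 := by
      simp only [hΦ, Badd, Bsmul, hee, Bcomm m' e, hem, Bcomm v' e, hev]; ring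
    funext i
    fin_cases i
    · show β⁻¹ * B (Φ c) v' = c 0
      rw [e0]; field_simp
    · show (-β)⁻¹ * B (Φ c) m' = c 1
      rw [e1]; field_simp
    · show β⁻¹ * B (Φ c) e = c 2
      rw [e2]; field_simp
  have hΦΨ : ∀ a ∈ W, Φ (Ψ a) = a := by
    have hr : LinearMap.range Φ = W := by
      refine Submodule.eq_of_le_of_finrank_le (by rintro _ ⟨c, rfl⟩; exact hΦW c) ?_
      rw [LinearMap.finrank_range_of_inj (f := Φ), Module.finrank_fin_fun, hε3]
      intro c d hcd
      rw [← hΨΦ c, ← hΨΦ d, hcd]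
    intro a ha
    obtain ⟨c, rfl⟩ : a ∈ LinearMap.range Φ := by rw [hr]; exact ha
    rw [hΨΦ]
  let σ2 : G →* Matrix (Fin 3) (Fin 3) k :=
    { toFun := fun g => LinearMap.toMatrix' (Ψ.comp ((Lg g).comp Φ))
      map_one' := by
        rw [← LinearMap.toMatrix'_id]
        congr 1
        refine LinearMap.ext fun c => ?_
        show Ψ (Lg 1 (Φ c)) = c
        rw [map_one, Module.End.one_apply, hΨΦ]
      map_mul' := fun g h => by
        rw [← LinearMap.toMatrix'_comp]
        congr 1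
        refine LinearMap.ext fun c => ?_
        show Ψ (Lg (g * h) (Φ c)) = Ψ (Lg g (Φ (Ψ (Lg h (Φ c)))))
        rw [hΦΨ _ (hWinv h _ (hΦW c)), map_mul, Module.End.mul_apply] }
  have hσ2 : ∀ g c, σ2 g *ᵥ c = Ψ (Lg g (Φ c)) := fun g c => by
    show LinearMap.toMatrix' _ *ᵥ c = _
    rw [LinearMap.toMatrix'_mulVec]
    rfl
  have hΦσ : ∀ g c, Φ (σ2 g *ᵥ c) = Lg g (Φ c) := fun g c => by rw [hσ2, hΦΨ _ (hWinv g _ (hΦW c))]
  have hiso : ∀ g c d, qB (σ2 g *ᵥ c) (σ2 g *ᵥ d) = qB c d := fun g c d => by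
    have h := hB g (Φ c) (Φ d)
    rw [← hΦσ, ← hΦσ, hBΦ, hBΦ] at h
    exact mul_left_cancel₀ hβ0 h
  have hσx : σ2 x = sq3 (up 1) := by
    refine Matrix.ext_of_mulVec_single fun i => ?_
    have hkey : ∀ c, Φ (sq3 (up (1 : k)) *ᵥ c) = Lg x (Φ c) := by
      intro c
      have hxa : ∀ b, Lg x b = b + X b := fun b => by simp [X]
      rw [hxa, hΦ c, map_add, map_add, map_smul, map_smul, map_smul, hXe, hXm, hXv', hΦ,
        show X w = m' + (2 : k)⁻¹ • e by rw [hm'def]; simp]
      have e0 : (sq3 (up (1 : k)) *ᵥ c) 0 = c 0 + c 1 + (2 : k)⁻¹ * c 2 := by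
        simp [sq3, up, Matrix.mulVec, dotProduct, Fin.sum_univ_three]
      have e1 : (sq3 (up (1 : k)) *ᵥ c) 1 = c 1 + c 2 := by
        simp [sq3, up, Matrix.mulVec, dotProduct, Fin.sum_univ_three]
      have e2 : (sq3 (up (1 : k)) *ᵥ c) 2 = c 2 := by
        simp [sq3, up, Matrix.mulVec, dotProduct, Fin.sum_univ_three]
      rw [e0, e1, e2]
      module
    rw [hσ2, ← hkey, hΨΦ]
  have hcen : ∀ z ∈ Subgroup.center G, σ2 z = 1 := by
    intro z hz
    obtain ⟨c, hc⟩ := hρz z hz
    refine Matrix.ext_of_mulVec_single fun i => ?_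
    rw [hσ2, Matrix.one_mulVec, hLg]
    have hcomm : ρ z * Φ (Pi.single i 1) = Φ (Pi.single i 1) * ρ z := by
      rw [hc, smul_mul_assoc, mul_smul_comm, one_mul, mul_one]
    rw [hcomm, mul_assoc, (hu z).2, mul_one, hΨΦ]
  let N0 : Subgroup G := σ2.toHomUnits.ker
  have hxN0 : x ∉ N0 := fun h => by
    have h1 : σ2 x = 1 := congrArg Units.val (MonoidHom.mem_ker.1 h)
    rw [hσx] at h1
    have := congrFun (congrFun h1 0) 1
    simp [sq3, up] at this
  have hN0 : ∀ g, σ2 g = 1 → g ∈ Subgroup.center G := fun g hg =>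
    ker_le_center hp hx hsq hnn hχ hf hdeg' N0 hxN0 (MonoidHom.mem_ker.2 (Units.ext hg))
  have hscal : ∀ g, (∃ c : k, σ2 g = c • 1) → g ∈ Subgroup.center G := by
    rintro g ⟨c, hc⟩
    refine mem_center_of_commute hx hsq hnn hχ hf hdeg' fun y => ?_
    set u := y * x * y⁻¹ with hudef
    have hup : u ^ p = 1 := by rw [hudef, conj_pow, hxp, mul_one, mul_inv_cancel]
    set z := g * u * g⁻¹ * u⁻¹ with hzdef
    have hzc : z ∈ Subgroup.center G := hN0 z (by
      have hinv : ∀ a : G, σ2 a * σ2 a⁻¹ = 1 := fun a => by rw [← map_mul, mul_inv_cancel, map_one]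
      have hcu : σ2 g * σ2 u = σ2 u * σ2 g := by rw [hc, smul_mul_assoc, mul_smul_comm, one_mul, mul_one]
      rw [hzdef, map_mul, map_mul, map_mul, hcu, mul_assoc (σ2 u), hinv, mul_one, hinv])
    have hzp : z ^ p = 1 := by
      have h1 : (z * u) ^ p = 1 := by
        rw [hzdef, inv_mul_cancel_right, conj_pow, hup, mul_one, mul_inv_cancel]
      rwa [Commute.mul_pow ((Subgroup.mem_center_iff.1 hzc u).symm), hup, mul_one] at h1
    have hzx : z ∈ Subgroup.zpowers x :=
      mem_zpowers_of_normalizer hx hsq (Subgroup.center_le_normalizer _ hzc) hzp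
    have hz1 : z = 1 := by
      by_contra hz1
      refine hnn ⟨fun a ha g' => ?_⟩
      have hxc : x ∈ Subgroup.center G := by
        have heq : Subgroup.zpowers z = Subgroup.zpowers x :=
          Subgroup.eq_of_le_of_card_ge (Subgroup.zpowers_le.2 hzx) (by
            rw [Nat.card_zpowers, Nat.card_zpowers, hx, orderOf_eq_prime hzp hz1])
        exact Subgroup.zpowers_le.2 hzc (heq ▸ Subgroup.mem_zpowers x)
      have hac : a ∈ Subgroup.center G := Subgroup.zpowers_le.2 hxc ha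
      rw [Subgroup.mem_center_iff.1 hac g', mul_inv_cancel_right]
      exact ha
    rw [hzdef, mul_inv_eq_one, mul_inv_eq_iff_eq_mul] at hz1
    exact hz1
  exact nonempty_equiv_psl hp hsq σ2 hiso hx hσx hnn hscal hcen fun h n hh hn =>
    no_primitive hx hχ hf hdeg' hh hn

open CfsgLib.BrauerChar in
theorem psl_of_half (hp : 5 ≤ p) (D : CfsgLib.DefectOne.Data G p) (hnn : ¬ (Subgroup.zpowers D.x).Normal)
    {χ : G → ℂ} (hχ : IsCharacter G χ) (hf : ∀ g, χ g = χ 1 → g = 1) (hdeg : 2 * charDegree χ + 1 = p) :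
    Nonempty ((G ⧸ Subgroup.center G) ≃* Matrix.ProjectiveSpecialLinearGroup (Fin 2) (ZMod p)) := by
  classical
  have hirr := isIrr_of_degree D.hx D.hSyl hnn hχ hf hdeg.le
  obtain ⟨M, hM⟩ := CfsgLib.Blocks.exists_modular (Fact.out : p.Prime)
  obtain ⟨m, ρ, hm, hρx, hρz⟩ := exists_module hM D.hx D.hSyl hnn (χ := ⟨χ, hirr⟩) hf
  have hm' : m = charDegree χ := hm
  exact psl_of_module hp D hnn hχ hf hdeg.le (by omega) ρ hρx hρz

theorem psl_main {χ : G → ℂ} (hdiv : p ∣ Nat.card G) (hsq : ¬ p ^ 2 ∣ Nat.card G)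
    (hnn : ∀ H : Subgroup G, H.Normal → Nat.card H ≠ p) (hχ : IsCharacter G χ)
    (hf : ∀ g, χ g = χ 1 → g = 1) (hdeg : 2 * charDegree χ + 1 = p) :
    Nonempty ((G ⧸ Subgroup.center G) ≃* Matrix.ProjectiveSpecialLinearGroup (Fin 2) (ZMod p)) := by
  classical
  have hpp : p.Prime := Fact.out
  obtain ⟨P⟩ : Nonempty (Sylow p G) := inferInstance
  have hP : Nat.card P = p := by
    rw [P.card_eq_multiplicity]
    have hfac : (Nat.card G).factorization p = 1 := le_antisymm
      (by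
        by_contra hc
        exact hsq ((pow_dvd_pow p (by omega : 2 ≤ (Nat.card G).factorization p)).trans (Nat.ordProj_dvd _ _)))
      (hpp.factorization_pos_of_dvd Nat.card_pos.ne' hdiv)
    rw [hfac, pow_one]
  obtain ⟨D, -⟩ := CfsgLib.DefectOne.exists_data P hP
  have hnn' : ¬ (Subgroup.zpowers D.x).Normal := fun h => hnn _ h (by rw [Nat.card_zpowers, D.hx])
  have hp5 : 5 ≤ p := by
    by_contra h
    have h2 := hpp.two_le
    rcases (by omega : p = 2 ∨ p = 3 ∨ p = 4) with h' | h' | h'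
    · omega
    · have hd : charDegree χ = 1 := by omega
      refine hnn' ⟨fun a ha g => ?_⟩
      have hcomm : g * a * g⁻¹ * a⁻¹ = 1 := hf _ (by
        have hmul := Cfsg.Agent.S4811.apply_mul_of_degree_one hχ hd
        have hinv : ∀ b, χ b * χ b⁻¹ = 1 := fun b => by
          rw [← hmul, mul_inv_cancel, apply_one hχ, hd, Nat.cast_one]
        rw [hmul, hmul, hmul, mul_right_comm (χ g) (χ a), hinv, one_mul, hinv, apply_one hχ, hd, Nat.cast_one])
      rw [mul_inv_eq_one] at hcomm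
      rw [hcomm]
      exact ha
    · exact absurd (h' ▸ hpp) (by norm_num)
  exact psl_of_half hp5 D hnn' hχ hf hdeg

end CfsgLib.HalfDeg
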